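import Groth.Agent.Fano.K470.CurDef

/-!
# Components degenerating to nonconstant combs agree (node EQ of the plan of S16525, S16526)

* `words_conn`: any two nonconstant words in an alphabet with at least three letters are connected by moves (keep all
  occurrences of one letter, change the others arbitrarily).
* `eq_of_nonconst`.
-/

set_option autoImplicit false

universe u

namespace K956.CombEq

open LefPen Groth.Agent.Lefpen.H703.ZOpen Module K714.Irr K714.Frames K470.Cur K656.Trilin K714.Surf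

/-! ## Words -/

section Words

variable {ι Λ : Type*}

/-- Connectedness of nonconstant words under moves. -/
theorem words_conn (E : (ι → Λ) → (ι → Λ) → Prop) (hs : ∀ a b, E a b → E b a)
    (ht : ∀ a b c, E a b → E b c → E a c)
    (hm : ∀ (w w' : ι → Λ) (i₀ : ι), w i₀ = w' i₀ → (∀ i, w i = w i₀ ↔ w' i = w i₀) → E w w')
    (l : Fin 3 → Λ) (hl : ∀ i j, i ≠ j → l i ≠ l j) {w w' : ι → Λ} (hw : ∃ i j, w i ≠ w j)
    (hw' : ∃ i j, w' i ≠ w' j) : E w w' := by
  classical
  -- a third letter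
  have h3 : ∀ A B : Λ, ∃ C, C ≠ A ∧ C ≠ B := by
    intro A B
    by_contra hcon
    push Not at hcon
    have h01 := hl 0 1 (by decide)
    have h02 := hl 0 2 (by decide)
    have h12 := hl 1 2 (by decide)
    have key : ∀ i, l i = A ∨ l i = B := by
      intro i
      by_cases hi : l i = A
      · exact Or.inl hi
      · exact Or.inr (hcon _ hi)
    rcases key 0 with h0 | h0 <;> rcases key 1 with h1 | h1 <;> rcases key 2 with h2 | h2 <;> simp_all
  let e : ι → Λ → Λ → (ι → Λ) := fun i A B => Function.update (fun _ => B) i A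
  have e_same : ∀ i A B, e i A B i = A := fun i A B => by simp [e]
  have e_ne : ∀ i A B j, j ≠ i → e i A B j = B := fun i A B j hj => by simp [e, Function.update_of_ne hj]
  have e_iffA : ∀ i A B j, A ≠ B → (e i A B j = A ↔ j = i) := by
    intro i A B j hAB
    by_cases hj : j = i
    · subst hj; simp [e_same]
    · rw [e_ne _ _ _ _ hj]
      exact ⟨fun h => absurd h.symm hAB, fun h => absurd h hj⟩
  have e_iffB : ∀ i A B j, A ≠ B → (e i A B j = B ↔ j ≠ i) := by
    intro i A B j hAB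
    by_cases hj : j = i
    · subst hj; simp [e_same, hAB]
    · rw [e_ne _ _ _ _ hj]
      exact ⟨fun _ => hj, fun _ => rfl⟩
  -- every nonconstant word
  have step1 : ∀ v : ι → Λ, (∃ i j, v i ≠ v j) → ∃ i A B, A ≠ B ∧ E v (e i A B) := by
    rintro v ⟨i, i1, hne⟩
    have hne' : v i1 ≠ v i := fun h => hne h.symm
    obtain ⟨B, hB, -⟩ := h3 (v i) (v i)
    obtain ⟨C, hC1, hC2⟩ := h3 (v i) B
    refine ⟨i, v i, B, hB.symm, ?_⟩
    let u1 : ι → Λ := fun j => if v j = v i then v i else B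
    let u2 : ι → Λ := fun j => if v j = v i then (if j = i then v i else C) else B
    have m1 : E v u1 := by
      refine hm v u1 i ?_ fun j => ?_
      · simp [u1]
      · by_cases hj : v j = v i
        · simp [u1, hj]
        · simp [u1, hj, hB]
    have m2 : E u1 u2 := by
      have hi1 : u1 i1 = B := by simp [u1, hne']
      refine hm u1 u2 i1 ?_ fun j => ?_
      · simp [u1, u2, hne']
      · rw [hi1]
        by_cases hj : v j = v i
        · by_cases hji : j = i
          · simp [u1, u2, hj, hji]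
          · simp [u1, u2, hj, hji, hB.symm, hC2]
        · simp [u1, u2, hj]
    have m3 : E u2 (e i (v i) B) := by
      have hi : u2 i = v i := by simp [u2]
      refine hm u2 _ i ?_ fun j => ?_
      · rw [hi, e_same]
      · rw [hi, e_iffA _ _ _ _ hB.symm]
        by_cases hj : v j = v i
        · by_cases hji : j = i
          · simp [u2, hj, hji]
          · simp [u2, hj, hji, hC1]
        · have hji : j ≠ i := fun h => hj (by rw [h])
          simp [u2, hj, hji, hB]
    exact ht _ _ _ (ht _ _ _ m1 m2) m3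
  obtain ⟨ia, ib, hab⟩ := hw
  have hnt : ∀ i : ι, ∃ j, j ≠ i := by
    intro i
    by_cases h : ia = i
    · exact ⟨ib, fun h' => hab (by rw [h, h'])⟩
    · exact ⟨ia, h⟩
  have chB : ∀ i A B B', B ≠ A → B' ≠ A → E (e i A B) (e i A B') := by
    intro i A B B' h h'
    refine hm _ _ i (by rw [e_same, e_same]) fun j => ?_
    rw [e_same, e_iffA _ _ _ _ h.symm, e_iffA _ _ _ _ h'.symm]
  have chA : ∀ i A A' B, A ≠ B → A' ≠ B → E (e i A B) (e i A' B) := by
    intro i A A' B h h'
    obtain ⟨j, hj⟩ := hnt i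
    refine hm _ _ j (by rw [e_ne _ _ _ _ hj, e_ne _ _ _ _ hj]) fun m => ?_
    rw [e_ne _ _ _ _ hj, e_iffB _ _ _ _ h, e_iffB _ _ _ _ h']
  have swap : ∀ i j A B, A ≠ B → j ≠ i → E (e i A B) (e j B A) := by
    intro i j A B h hji
    obtain ⟨C, hCA, hCB⟩ := h3 A B
    let u : ι → Λ := Function.update (e i A C) j B
    have hui : u i = A := by simp [u, Function.update_of_ne hji.symm, e_same]
    have huj : u j = B := by simp [u]
    have huo : ∀ m, m ≠ i → m ≠ j → u m = C := fun m h1 h2 => by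
      simp only [u, Function.update_of_ne h2]; exact e_ne _ _ _ _ h1
    have m1 : E (e i A B) u := by
      refine hm _ _ i (by rw [e_same, hui]) fun m => ?_
      rw [e_same, e_iffA _ _ _ _ h]
      by_cases h1 : m = i
      · subst h1; simp [hui]
      · by_cases h2 : m = j
        · subst h2; simp [huj, h1, h.symm]
        · simp [huo m h1 h2, h1, hCA]
    have m2 : E u (e j B A) := by
      refine hm _ _ j (by rw [e_same, huj]) fun m => ?_
      rw [huj, e_iffA _ _ _ _ h.symm]
      by_cases h2 : m = j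
      · subst h2; simp [huj]
      · by_cases h1 : m = i
        · subst h1; simp [hui, h2, h]
        · simp [huo m h1 h2, h2, hCB]
    exact ht _ _ _ m1 m2
  have pairs : ∀ i A B X Y, A ≠ B → X ≠ Y → E (e i A B) (e i X Y) := by
    intro i A B X Y h h'
    by_cases hXB : X = B
    · subst hXB
      obtain ⟨C, hCA, hCX⟩ := h3 A X
      exact ht _ _ _ (ht _ _ _ (chB i A X C h.symm hCA) (chA i A X C hCA.symm hCX.symm))
        (chB i X C Y hCX h'.symm)
    · exact ht _ _ _ (chA i A X B h hXB) (chB i X B Y (Ne.symm hXB) h'.symm)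
  have all : ∀ i j A B X Y, A ≠ B → X ≠ Y → E (e i A B) (e j X Y) := by
    intro i j A B X Y h h'
    by_cases hij : j = i
    · subst hij; exact pairs _ _ _ _ _ h h'
    · exact ht _ _ _ (pairs i A B Y X h h'.symm) (swap i j Y X h'.symm hij)
  obtain ⟨i, A, B, h, h1⟩ := step1 w ⟨ia, ib, hab⟩
  obtain ⟨j, X, Y, h', h2⟩ := step1 w' hw'
  exact ht _ _ _ (ht _ _ _ h1 (all i j A B X Y h h')) (hs _ _ h2)

end Words

/-! ## Combs -/

section Combs

variable {k : Type u} [Field k]
variable {T : (Fin 5 → k) →ₗ[k] (Fin 5 → k) →ₗ[k] (Fin 5 → k) →ₗ[k] k}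

theorem cl_mono {W : Type u} [AddCommGroup W] [Module k W] {S S' : Set W} (h : S ⊆ S') : Cl k S ⊆ Cl k S' := by
  intro v hv O hO hvO
  obtain ⟨s, hs, hsO⟩ := hv O hO hvO
  exact ⟨s, h hs, hsO⟩

theorem span_eq_iff {x p q : Fin 5 → k} (hp : (x, p) ∈ FR T) (hq : (x, q) ∈ FR T) :
    p ∈ Submodule.span k {x, q} ↔ Submodule.span k {x, p} = Submodule.span k {x, q} := by
  constructor
  · intro h
    have hle : Submodule.span k {x, p} ≤ Submodule.span k {x, q} := by
      rw [Submodule.span_le]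
      rintro v (rfl | rfl)
      · exact Submodule.subset_span (by simp)
      · exact h
    have hr : ∀ {z : Fin 5 → k}, (x, z) ∈ FR T → finrank k (Submodule.span k {x, z}) = 2 := by
      intro z hz
      have h1 := finrank_span_eq_card hz.1
      have h2 : Set.range ![(x, z).1, (x, z).2] = {x, z} := by
        ext v
        simp only [Matrix.range_cons, Matrix.range_empty, Set.union_empty, Set.mem_union, Set.mem_singleton_iff,
          Set.mem_insert_iff]
      rw [h2] at h1
      simpa using h1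
    exact Submodule.eq_of_le_of_finrank_eq hle (by rw [hr hp, hr hq])
  · intro h
    rw [← h]
    exact Submodule.subset_span (by simp)

theorem span_ne_of_linearIndependent {x p q : Fin 5 → k} (h : LinearIndependent k ![x, p, q]) :
    Submodule.span k {x, p} ≠ Submodule.span k {x, q} := by
  intro he
  have hq : q ∈ Submodule.span k {x, p} := by
    rw [he]; exact Submodule.subset_span (by simp)
  obtain ⟨a, b, hab⟩ := Submodule.mem_span_pair.mp hq
  have := Fintype.linearIndependent_iff.mp h ![a, b, -1] (by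
    simp only [Fin.sum_univ_three, ← hab, Matrix.cons_val_zero, Matrix.cons_val_one, Matrix.cons_val, neg_smul,
      one_smul, smul_add]
    abel)
  simpa using this 2

/-- Node EQ from `comb_unique`, `comp_unique`, `move` for fixed `e` and `x`. -/
theorem eq_of_nonconst_aux {e : ℕ} {x : Fin 5 → k} (hx : GoodPt T x)
    (comb_unique : ∀ {t : Fin e → k} {p : Fin e → Fin 5 → k}, IsComb T x t p → (∀ i, First T x (p i)) →
      ∃ C : Set (Y k e), C ⊆ Chart T e ∧ Irr k C ∧
        ∀ S : Set (Y k e), S ⊆ Chart T e → Irr k S → comb x t p ∈ Cl k S → S ⊆ C)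
    (comp_unique : ∀ {t t' : Fin e → k} {p p' : Fin e → Fin 5 → k}, IsComb T x t p → IsComb T x t' p' →
      ∀ {W W' : Set (A k e)}, IsComp k (Z T e) W → IsComp k (Z T e) W' →
      comb x t p ∈ Cl k (Ov W) → comb x t' p' ∈ Cl k (Ov W') → ∀ {S : Set (Y k e)}, S ⊆ Chart T e →
      Irr k S → comb x t p ∈ Cl k S → comb x t' p' ∈ Cl k S → W = W')
    (move : ∀ {i₀ : Fin e} {t t' : Fin e → k} {p p' : Fin e → Fin 5 → k}, IsComb T x t p → IsComb T x t' p' →
      p' i₀ ∈ Submodule.span k {x, p i₀} →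
      (∀ i, p i ∈ Submodule.span k {x, p i₀} ↔ p' i ∈ Submodule.span k {x, p i₀}) →
      ∃ S : Set (Y k e), S ⊆ Chart T e ∧ Irr k S ∧ comb x t p ∈ Cl k S ∧ comb x t' p' ∈ Cl k S)
    {t t' : Fin e → k} {p p' : Fin e → Fin 5 → k} (hc : IsComb T x t p) (hc' : IsComb T x t' p')
    (hn : ∃ i j, LinearIndependent k ![x, p i, p j]) (hn' : ∃ i j, LinearIndependent k ![x, p' i, p' j])
    {W W' : Set (A k e)} (hW : IsComp k (Z T e) W) (hW' : IsComp k (Z T e) W')
    (h : comb x t p ∈ Cl k (Ov W)) (h' : comb x t' p' ∈ Cl k (Ov W')) : W = W' := by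
  let Λ := {M : Submodule k (Fin 5 → k) // ∃ q, (x, q) ∈ FR T ∧ M = Submodule.span k {x, q}}
  let E : (Fin e → Λ) → (Fin e → Λ) → Prop := fun w w' =>
    ∀ (t t' : Fin e → k) (p p' : Fin e → Fin 5 → k), IsComb T x t p → IsComb T x t' p' →
      (∀ i, Submodule.span k {x, p i} = (w i).1) → (∀ i, Submodule.span k {x, p' i} = (w' i).1) →
      ∃ S : Set (Y k e), S ⊆ Chart T e ∧ Irr k S ∧ comb x t p ∈ Cl k S ∧ comb x t' p' ∈ Cl k S
  have hs : ∀ a b, E a b → E b a := by
    intro a b hab t t' p p' hc hc' h h'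
    obtain ⟨S, h1, h2, h3, h4⟩ := hab t' t p' p hc' hc h' h
    exact ⟨S, h1, h2, h4, h3⟩
  have ht : ∀ a b c, E a b → E b c → E a c := by
    intro a b c hab hbc t t' p p' hc hc' h h'
    choose q hq1 hq2 using fun i => (b i).2
    have hcq : IsComb T x t q := ⟨hc.1, hq1⟩
    obtain ⟨S1, h11, h12, h13, h14⟩ := hab t t p q hc hcq h (fun i => (hq2 i).symm)
    obtain ⟨S2, h21, h22, h23, h24⟩ := hbc t t' q p' hcq hc' (fun i => (hq2 i).symm) h'
    obtain ⟨C, hC1, hC2, hC3⟩ := comb_unique hcq (fun i => (hx.2.2.1 (q i) (hq1 i)).1)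
    exact ⟨C, hC1, hC2, cl_mono (hC3 S1 h11 h12 h14) h13, cl_mono (hC3 S2 h21 h22 h23) h24⟩
  have hm : ∀ (w w' : Fin e → Λ) (i₀ : Fin e), w i₀ = w' i₀ → (∀ i, w i = w i₀ ↔ w' i = w i₀) → E w w' := by
    intro w w' i₀ h0 hiff t t' p p' hc hc' h h'
    have key : ∀ i, (p i ∈ Submodule.span k {x, p i₀} ↔ w i = w i₀) := by
      intro i
      rw [span_eq_iff (hc.2 i) (hc.2 i₀), h, h, Subtype.ext_iff]
    have key' : ∀ i, (p' i ∈ Submodule.span k {x, p i₀} ↔ w' i = w i₀) := by
      intro i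
      rw [span_eq_iff (hc'.2 i) (hc.2 i₀), h, h', Subtype.ext_iff]
    refine move hc hc' ((key' i₀).mpr h0.symm) fun i => ?_
    rw [key, key', hiff]
  obtain ⟨l, hl1, hl2⟩ := hx.2.2.2
  let wd : ∀ q : Fin 5 → k, (x, q) ∈ FR T → Λ := fun q hq => ⟨_, q, hq, rfl⟩
  have conn := words_conn E hs ht hm (fun i => wd (l i) (hl1 i))
    (fun i j hij he => span_ne_of_linearIndependent (hl2 i j hij) (congrArg Subtype.val he))
    (w := fun i => wd (p i) (hc.2 i)) (w' := fun i => wd (p' i) (hc'.2 i))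
    (by
      obtain ⟨i, j, hij⟩ := hn
      exact ⟨i, j, fun he => span_ne_of_linearIndependent hij (congrArg Subtype.val he)⟩)
    (by
      obtain ⟨i, j, hij⟩ := hn'
      exact ⟨i, j, fun he => span_ne_of_linearIndependent hij (congrArg Subtype.val he)⟩)
  obtain ⟨S, h1, h2, h3, h4⟩ := conn t t' p p' hc hc' (fun i => rfl) (fun i => rfl)
  exact comp_unique hc hc' hW hW' h h' h1 h2 h3 h4

/-- Node EQ (`eq_of_nonconst` of `K470.PlanCurve`), from `comb_unique`, `comp_unique`, `move`. -/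
theorem eq_of_nonconst [IsAlgClosed k] [CharZero k]
    (comb_unique : IsSym3 T → SmoothOn T ⊤ → ∀ {e : ℕ} {x : Fin 5 → k}, x ≠ 0 → T x x x = 0 →
      ∀ {t : Fin e → k} {p : Fin e → Fin 5 → k}, IsComb T x t p → (∀ i, First T x (p i)) →
      ∃ C : Set (Y k e), C ⊆ Chart T e ∧ Irr k C ∧
        ∀ S : Set (Y k e), S ⊆ Chart T e → Irr k S → comb x t p ∈ Cl k S → S ⊆ C)
    (comp_unique : IsSym3 T → SmoothOn T ⊤ → ∀ {e : ℕ} {x : Fin 5 → k}, GoodPt T x →
      ∀ {t t' : Fin e → k} {p p' : Fin e → Fin 5 → k}, IsComb T x t p → IsComb T x t' p' →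
      ∀ {W W' : Set (A k e)}, IsComp k (Z T e) W → IsComp k (Z T e) W' →
      comb x t p ∈ Cl k (Ov W) → comb x t' p' ∈ Cl k (Ov W') → ∀ {S : Set (Y k e)}, S ⊆ Chart T e →
      Irr k S → comb x t p ∈ Cl k S → comb x t' p' ∈ Cl k S → W = W')
    (move : IsSym3 T → SmoothOn T ⊤ → ∀ {e : ℕ} {x : Fin 5 → k}, GoodPt T x →
      ∀ {i₀ : Fin e} {t t' : Fin e → k} {p p' : Fin e → Fin 5 → k}, IsComb T x t p → IsComb T x t' p' →
      p' i₀ ∈ Submodule.span k {x, p i₀} →
      (∀ i, p i ∈ Submodule.span k {x, p i₀} ↔ p' i ∈ Submodule.span k {x, p i₀}) →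
      ∃ S : Set (Y k e), S ⊆ Chart T e ∧ Irr k S ∧ comb x t p ∈ Cl k S ∧ comb x t' p' ∈ Cl k S)
    (hT : IsSym3 T) (hsm : SmoothOn T ⊤) {e : ℕ} {x : Fin 5 → k}
    (hx : GoodPt T x) {t t' : Fin e → k} {p p' : Fin e → Fin 5 → k} (hc : IsComb T x t p) (hc' : IsComb T x t' p')
    (hn : ∃ i j, LinearIndependent k ![x, p i, p j]) (hn' : ∃ i j, LinearIndependent k ![x, p' i, p' j])
    {W W' : Set (A k e)} (hW : IsComp k (Z T e) W) (hW' : IsComp k (Z T e) W')
    (h : comb x t p ∈ Cl k (Ov W)) (h' : comb x t' p' ∈ Cl k (Ov W')) : W = W' :=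
  eq_of_nonconst_aux hx (fun hc h1 => comb_unique hT hsm hx.1 hx.2.1 hc h1)
    (fun hc hc' _ _ hW hW' h h' _ hS hirr h1 h2 => comp_unique hT hsm hx hc hc' hW hW' h h' hS hirr h1 h2)
    (fun hc hc' h0 hi => move hT hsm hx hc hc' h0 hi) hc hc' hn hn' hW hW' h h'

end Combs

end K956.CombEq
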